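import Cfsg.Agent.StClassical.Twist

/-!
# Steinberg characters of groups embedded as fixed points of a twist
-/

set_option autoImplicit false
set_option linter.unusedSectionVars false
set_option linter.style.haveILetI false

namespace CfsgLib.StClassical

open Matrix CfsgLib.Pronormal CfsgLib.Unitary
open scoped MatrixGroups

variable {n : ℕ} {F : Type*} [Field F]

/-- The antidiagonal Gram matrix of a twist. -/
noncomputable def gramGL (t₀ : Fin n → Fˣ) : GL (Fin n) F := diagGL t₀ * revGL n F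

theorem gramGL_apply (t₀ : Fin n → Fˣ) (j k : Fin n) :
    ((gramGL t₀ : GL (Fin n) F) : Matrix (Fin n) (Fin n) F) j k = if Fin.rev k = j then (t₀ j : F) else 0 := by
  rw [gramGL, Units.val_mul, diagGL_val, Matrix.diagonal_mul, revGL_apply]
  simp

theorem twistJ_eq_iff (φ : F →+* F) (t₀ : Fin n → Fˣ) (g : GL (Fin n) F) :
    twistJ φ t₀ g = g ↔ (g : Matrix (Fin n) (Fin n) F) * (gramGL t₀ : GL (Fin n) F) *
      adj φ (g : Matrix (Fin n) (Fin n) F) = ((gramGL t₀ : GL (Fin n) F) : Matrix (Fin n) (Fin n) F) := by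
  let B : GL (Fin n) F :=
    ⟨adj φ (g : Matrix (Fin n) (Fin n) F), adj φ ((g⁻¹ : GL (Fin n) F) : Matrix (Fin n) (Fin n) F),
      by rw [← adj_mul, ← Units.val_mul, inv_mul_cancel, Units.val_one, adj_one],
      by rw [← adj_mul, ← Units.val_mul, mul_inv_cancel, Units.val_one, adj_one]⟩
  have hB : twistJ φ t₀ g = gramGL t₀ * B⁻¹ * (gramGL t₀)⁻¹ := by
    have : twist φ g = revGL n F * B⁻¹ * (revGL n F)⁻¹ := by
      change revGL n F * _ * (revGL n F)⁻¹ = _
      congr 2
    change diagGL t₀ * twist φ g * (diagGL t₀)⁻¹ = _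
    rw [this, gramGL]
    group
  have : twistJ φ t₀ g = g ↔ g * gramGL t₀ * B = gramGL t₀ := by
    rw [hB, mul_inv_eq_iff_eq_mul, mul_inv_eq_iff_eq_mul, eq_comm]
  rw [this, Units.ext_iff, Units.val_mul, Units.val_mul]

theorem twistJ_rev_conj (φ : F →+* F) (t₀ : Fin n → Fˣ) {c : Fˣ} (hc : ∀ j, t₀ (Fin.rev j) = c * t₀ j)
    {g : GL (Fin n) F} (hg : twistJ φ t₀ g = g) :
    twistJ φ t₀ (revGL n F * g * (revGL n F)⁻¹) = revGL n F * g * (revGL n F)⁻¹ := by
  refine Units.ext (Matrix.ext fun j k => ?_)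
  have hinv : (revGL n F * g * (revGL n F)⁻¹)⁻¹ = revGL n F * g⁻¹ * (revGL n F)⁻¹ := by group
  have h := congrArg (fun x : GL (Fin n) F => (x : Matrix (Fin n) (Fin n) F) (Fin.rev j) (Fin.rev k)) hg
  simp only [twistJ_apply, Fin.rev_rev] at h
  rw [twistJ_apply, hinv, rev_conj_apply, rev_conj_apply, Fin.rev_rev, Fin.rev_rev, ← h, hc, hc]
  push_cast
  have h1 := c.ne_zero
  have h2 := (t₀ k).ne_zero
  field_simp

/-- Transport of the conclusion along an embedding. -/
theorem exists_steinberg_of_hom [Finite F] (p : ℕ) [Fact p.Prime] [CharP F p] {H : Type*} [Group H]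
    (f : H →* GL (Fin n) F) (hf : Function.Injective f) {φ : F →+* F} {t₀ : Fin n → Fˣ}
    (D : TwistData f.range φ t₀) :
    ∃ χ : H ⧸ Subgroup.center H → ℂ, Cfsg.IsIrrCharacter (H ⧸ Subgroup.center H) χ ∧
      ∀ P : Sylow p (H ⧸ Subgroup.center H), χ 1 = Nat.card P ∧
        ∀ x : H ⧸ Subgroup.center H, x ∈ P → x ≠ 1 → χ x = 0 := by
  classical
  obtain ⟨χ, hχ, hP⟩ := D.model.exists_steinberg p
  let e : H ≃* f.range := MonoidHom.ofInjective hf
  have hmap : (Subgroup.center H).map (e : H →* f.range) = Subgroup.center f.range := by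
    refine le_antisymm ?_ ?_
    · rintro _ ⟨z, hz, rfl⟩
      refine Subgroup.mem_center_iff.2 fun w => ?_
      obtain ⟨v, rfl⟩ := e.surjective w
      show e v * e z = e z * e v
      rw [← map_mul, ← map_mul, Subgroup.mem_center_iff.1 hz]
    · intro w hw
      obtain ⟨v, rfl⟩ := e.surjective w
      refine ⟨v, Subgroup.mem_center_iff.2 fun u => e.injective ?_, rfl⟩
      rw [map_mul, map_mul, Subgroup.mem_center_iff.1 hw]
  let eq : H ⧸ Subgroup.center H ≃* f.range ⧸ Subgroup.center f.range :=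
    QuotientGroup.congr _ _ e hmap
  haveI : Finite H := Finite.of_equiv _ e.symm.toEquiv
  refine ⟨fun x => χ (eq x), CfsgLib.Char.IsIrrCharacter.comp_surjective hχ eq.toMonoidHom eq.surjective,
    fun P => ?_⟩
  let Q : Sylow p (f.range ⧸ Subgroup.center f.range) := P.mapSurjective (f := eq.toMonoidHom) eq.surjective
  have hQ : ∀ x, eq x ∈ Q ↔ x ∈ P := fun x => by
    show eq x ∈ ((P : Subgroup _).map eq.toMonoidHom) ↔ _
    exact Subgroup.mem_map_iff_mem eq.injective
  have hcard : Nat.card Q = Nat.card P :=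
    Nat.card_congr ((P : Subgroup _).equivMapOfInjective eq.toMonoidHom eq.injective).toEquiv.symm
  refine ⟨?_, fun x hx hx1 => (hP Q).2 _ ((hQ x).2 hx) fun h => hx1 (eq.injective (h.trans (map_one eq).symm))⟩
  show χ (eq 1) = _
  rw [map_one, (hP Q).1, hcard]

end CfsgLib.StClassical
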