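import Cfsg.Prelude.Def_Classical
import Cfsg.Agent.StClassical.Embed
import Cfsg.Agent.Quad.OmegaSum
import Cfsg.Agent.Quad.Concrete
import Cfsg.Agent.Quad.Hyp

/-!
# The Steinberg character of the orthogonal groups in odd dimension
-/

set_option autoImplicit false
set_option linter.unusedSectionVars false
set_option linter.style.haveILetI false

namespace CfsgLib.StClassical

open Matrix CfsgLib.Pronormal CfsgLib.Unitary
open scoped MatrixGroups

variable {F : Type*} [Field F] (m : ℕ)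

/-- The anisotropic line in the middle, hyperbolic pairs in reversed positions. -/
def ooIdx : Unit ⊕ (Fin m ⊕ Fin m) ≃ Fin (2 * m + 1) where
  toFun := Sum.elim (fun _ => ⟨m, by omega⟩)
    (Sum.elim (fun i => ⟨i, by omega⟩) (fun i => ⟨2 * m - i, by omega⟩))
  invFun j := if h : (j : ℕ) < m then Sum.inr (Sum.inl ⟨j, h⟩)
    else if h' : m < (j : ℕ) then Sum.inr (Sum.inr ⟨2 * m - j, by omega⟩) else Sum.inl ()
  left_inv := by
    rintro (u | i | i)
    · simp
    · simp
    · have h : ¬ 2 * m - (i : ℕ) < m := by omega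
      have h' : m < 2 * m - (i : ℕ) := by omega
      simp only [Sum.elim_inr]
      refine (dif_neg h).trans ((dif_pos h').trans ?_)
      refine congrArg Sum.inr (congrArg Sum.inr (Fin.ext ?_))
      show 2 * m - (2 * m - (i : ℕ)) = i
      omega
  right_inv j := by
    by_cases h : (j : ℕ) < m
    · simp [h]
    · by_cases h' : m < (j : ℕ)
      · simp only [dif_neg h, dif_pos h', Sum.elim_inr, Fin.ext_iff]
        omega
      · simp only [dif_neg h, dif_neg h', Sum.elim_inl, Fin.ext_iff]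
        omega

theorem ooIdx_mid (u : Unit) : ((ooIdx m (Sum.inl u) : Fin (2 * m + 1)) : ℕ) = m := rfl

theorem ooIdx_left (i : Fin m) : ((ooIdx m (Sum.inr (Sum.inl i)) : Fin (2 * m + 1)) : ℕ) = i := rfl

theorem ooIdx_right (i : Fin m) :
    ((ooIdx m (Sum.inr (Sum.inr i)) : Fin (2 * m + 1)) : ℕ) = 2 * m - i := rfl

variable (h2 : (2 : F) ≠ 0)

/-- The inverse Gram diagonal. -/
def ooDiag (j : Fin (2 * m + 1)) : Fˣ := if (j : ℕ) = m then (Units.mk0 (2 : F) h2)⁻¹ else 1

theorem ooDiag_rev (j : Fin (2 * m + 1)) : ooDiag m h2 (Fin.rev j) = ooDiag m h2 j := by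
  unfold ooDiag
  simp only [Fin.val_rev]
  split_ifs <;> first | rfl | (exfalso; omega)

/-- The matrix of the polar form. -/
noncomputable def ooPolar : Matrix (Fin (2 * m + 1)) (Fin (2 * m + 1)) F :=
  (((gramGL (ooDiag m h2))⁻¹ : GL (Fin (2 * m + 1)) F) : Matrix (Fin (2 * m + 1)) (Fin (2 * m + 1)) F)

theorem ooPolar_apply (a b : Fin (2 * m + 1)) :
    ooPolar m h2 a b = if Fin.rev b = a then (((ooDiag m h2 a)⁻¹ : Fˣ) : F) else 0 := by
  rw [ooPolar, gramGL, _root_.mul_inv_rev, ← map_inv, revGL_inv, Units.val_mul, diagGL_val, Matrix.mul_diagonal,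
    revGL_apply]
  by_cases h : Fin.rev b = a
  · subst h
    simp [ooDiag_rev]
  · simp [h]

theorem ooPolar_mulVec (w : Fin (2 * m + 1) → F) (a : Fin (2 * m + 1)) :
    (ooPolar m h2 *ᵥ w) a = (((ooDiag m h2 a)⁻¹ : Fˣ) : F) * w (Fin.rev a) := by
  rw [Matrix.mulVec, dotProduct, Finset.sum_eq_single (Fin.rev a), ooPolar_apply, Fin.rev_rev, if_pos rfl]
  · intro b _ hb
    rw [ooPolar_apply, if_neg (fun e => hb (by rw [← e, Fin.rev_rev])), zero_mul]
  · simp

include h2 in
theorem quadFormOdd_eq (v : Unit ⊕ (Fin m ⊕ Fin m) → F) :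
    2 * Cfsg.quadFormOdd m F v = (v ∘ (ooIdx m).symm) ⬝ᵥ (ooPolar m h2 *ᵥ (v ∘ (ooIdx m).symm)) := by
  have r0 : Fin.rev (ooIdx m (Sum.inl ())) = ooIdx m (Sum.inl ()) := Fin.ext (by
    rw [Fin.val_rev, ooIdx_mid]; omega)
  have r1 : ∀ k, Fin.rev (ooIdx m (Sum.inr (Sum.inl k))) = ooIdx m (Sum.inr (Sum.inr k)) := fun k =>
    Fin.ext (by rw [Fin.val_rev, ooIdx_left, ooIdx_right]; omega)
  have r2 : ∀ k, Fin.rev (ooIdx m (Sum.inr (Sum.inr k))) = ooIdx m (Sum.inr (Sum.inl k)) := fun k => by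
    rw [← r1, Fin.rev_rev]
  have d0 : (((ooDiag m h2 (ooIdx m (Sum.inl ())))⁻¹ : Fˣ) : F) = 2 := by
    rw [ooDiag, if_pos (ooIdx_mid m ()), inv_inv, Units.val_mk0]
  have d1 : ∀ k, (((ooDiag m h2 (ooIdx m (Sum.inr (Sum.inl k))))⁻¹ : Fˣ) : F) = 1 := fun k => by
    rw [ooDiag, if_neg (by rw [ooIdx_left]; omega)]; simp
  have d2 : ∀ k, (((ooDiag m h2 (ooIdx m (Sum.inr (Sum.inr k))))⁻¹ : Fˣ) : F) = 1 := fun k => by
    rw [ooDiag, if_neg (by rw [ooIdx_right]; omega)]; simp
  rw [dotProduct, ← (ooIdx m).sum_comp, Fintype.sum_sum_type, Fintype.sum_sum_type, Fintype.sum_unique]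
  simp only [ooPolar_mulVec, Function.comp_apply, Equiv.symm_apply_apply, r0, r1, r2, d0, d1, d2,
    Cfsg.quadFormOdd, PUnit.default_eq_unit, one_mul]
  rw [mul_add, Finset.mul_sum, ← Finset.sum_add_distrib]
  congr 1
  · ring
  · exact Finset.sum_congr rfl fun k _ => by ring

theorem adj_id (X : Matrix (Fin (2 * m + 1)) (Fin (2 * m + 1)) F) : adj (RingHom.id F) X = Xᵀ := by
  ext a b; simp [adj]

theorem twistJ_iff_polar (g : GL (Fin (2 * m + 1)) F) :
    twistJ (RingHom.id F) (ooDiag m h2) g = g ↔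
      (g : Matrix (Fin (2 * m + 1)) (Fin (2 * m + 1)) F)ᵀ * ooPolar m h2 * g = ooPolar m h2 := by
  rw [twistJ_eq_iff, adj_id, ooPolar]
  set K := gramGL (ooDiag m h2)
  let gt : GL (Fin (2 * m + 1)) F :=
    ⟨(g : Matrix (Fin (2 * m + 1)) (Fin (2 * m + 1)) F)ᵀ,
      ((g⁻¹ : GL (Fin (2 * m + 1)) F) : Matrix (Fin (2 * m + 1)) (Fin (2 * m + 1)) F)ᵀ,
      by rw [← Matrix.transpose_mul, ← Units.val_mul, inv_mul_cancel, Units.val_one, Matrix.transpose_one],
      by rw [← Matrix.transpose_mul, ← Units.val_mul, mul_inv_cancel, Units.val_one, Matrix.transpose_one]⟩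
  have e : g * K * gt = K ↔ gt * K⁻¹ * g = K⁻¹ := by
    constructor
    · intro h
      calc gt * K⁻¹ * g = gt * (g * K * gt)⁻¹ * g := by rw [h]
        _ = K⁻¹ := by group
    · intro h
      calc g * K * gt = g * (K⁻¹)⁻¹ * gt := by rw [inv_inv]
        _ = g * (gt * K⁻¹ * g)⁻¹ * gt := by rw [h]
        _ = K := by group
  simpa only [Units.ext_iff, Units.val_mul] using e

/-- Matrices in the new coordinates. -/
noncomputable def ooGL : GL (Unit ⊕ (Fin m ⊕ Fin m)) F ≃* GL (Fin (2 * m + 1)) F :=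
  Units.mapEquiv (Matrix.reindexAlgEquiv F F (ooIdx m)).toMulEquiv

theorem ooGL_val (x : GL (Unit ⊕ (Fin m ⊕ Fin m)) F) :
    ((ooGL m x : GL (Fin (2 * m + 1)) F) : Matrix (Fin (2 * m + 1)) (Fin (2 * m + 1)) F) =
      Matrix.reindex (ooIdx m) (ooIdx m) (x : Matrix _ _ F) := rfl

theorem mem_isometry_iff (x : GL (Unit ⊕ (Fin m ⊕ Fin m)) F) :
    x ∈ Cfsg.isometryGroup F (Cfsg.quadFormOdd m F) ↔
      twistJ (RingHom.id F) (ooDiag m h2) (ooGL m x) = ooGL m x := by
  rw [twistJ_iff_polar]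
  set B := ooPolar m h2
  set A : Matrix (Fin (2 * m + 1)) (Fin (2 * m + 1)) F :=
    ((ooGL m x : GL (Fin (2 * m + 1)) F) : Matrix (Fin (2 * m + 1)) (Fin (2 * m + 1)) F) with hA
  have key : ∀ v : Unit ⊕ (Fin m ⊕ Fin m) → F,
      2 * Cfsg.quadFormOdd m F ((x : Matrix _ _ F) *ᵥ v) =
        (v ∘ (ooIdx m).symm) ⬝ᵥ ((Aᵀ * B * A) *ᵥ (v ∘ (ooIdx m).symm)) := by
    intro v
    have e : ((x : Matrix _ _ F) *ᵥ v) ∘ (ooIdx m).symm = A *ᵥ (v ∘ (ooIdx m).symm) := by
      rw [hA, ooGL_val, Matrix.reindex_apply, Matrix.submatrix_mulVec_equiv, Equiv.symm_symm,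
        Function.comp_assoc, Equiv.symm_comp_self, Function.comp_id]
    rw [quadFormOdd_eq m h2, e, ← Matrix.mulVec_mulVec, ← Matrix.mulVec_mulVec,
      Matrix.dotProduct_mulVec (v ∘ (ooIdx m).symm) Aᵀ, Matrix.vecMul_transpose]
  constructor
  · intro h
    have hq : ∀ w : Fin (2 * m + 1) → F, w ⬝ᵥ ((Aᵀ * B * A - B) *ᵥ w) = 0 := by
      intro w
      have e : w = (w ∘ ooIdx m) ∘ (ooIdx m).symm := by
        rw [Function.comp_assoc, Equiv.self_comp_symm, Function.comp_id]
      rw [Matrix.sub_mulVec, dotProduct_sub, sub_eq_zero, e, ← key, ← quadFormOdd_eq m h2]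
      exact congrArg (2 * ·) (h (w ∘ ooIdx m) (w ∘ ooIdx m))
    have hBs : ∀ a b, B a b = B b a := fun a b => by
      simp only [B, ooPolar_apply]
      by_cases hab : Fin.rev b = a
      · subst hab; simp [ooDiag_rev]
      · rw [if_neg hab, if_neg fun e => hab (by rw [← e, Fin.rev_rev])]
    have hBt : Bᵀ = B := Matrix.ext fun a b => hBs b a
    have hs : ∀ a b, (Aᵀ * B * A - B) a b = (Aᵀ * B * A - B) b a := fun a b => by
      have : (Aᵀ * B * A - B)ᵀ = Aᵀ * B * A - B := by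
        rw [Matrix.transpose_sub, Matrix.transpose_mul, Matrix.transpose_mul, Matrix.transpose_transpose, hBt,
          Matrix.mul_assoc]
      exact congrFun (congrFun this b) a
    generalize hM : Aᵀ * B * A - B = M at hq hs
    have hd : ∀ a, M a a = 0 := fun a => by
      have := hq (Pi.single a 1)
      simpa [Matrix.mulVec_single_one, single_dotProduct] using this
    have hz : M = 0 := by
      ext a b
      have := hq (Pi.single a 1 + Pi.single b 1)
      simp [Matrix.mulVec_add, Matrix.mulVec_single_one, single_dotProduct, dotProduct_add, add_dotProduct,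
        hd, hs b a] at this
      rw [← two_mul] at this
      exact (mul_eq_zero.1 this).resolve_left h2
    exact sub_eq_zero.1 (hM.trans hz)
  · intro h u _
    refine mul_left_cancel₀ h2 ?_
    show 2 * Cfsg.quadFormOdd m F ((x : Matrix _ _ F) *ᵥ u) = _
    rw [key, h, quadFormOdd_eq m h2]

/-- The orthogonal commutator group inside `GL (2 m + 1)`. -/
noncomputable def ooHom : Cfsg.Omega F (Cfsg.quadFormOdd m F) →* GL (Fin (2 * m + 1)) F :=
  (ooGL m).toMonoidHom.comp ((Cfsg.isometryGroup F (Cfsg.quadFormOdd m F)).subtype.comp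
    (Cfsg.Omega F (Cfsg.quadFormOdd m F)).subtype)

theorem ooHom_injective : Function.Injective (ooHom (F := F) m) := fun _ _ h =>
  Subtype.ext (Subtype.ext ((ooGL m).injective h))

theorem unitri_ppow {n : ℕ} (p : ℕ) [Fact p.Prime] [CharP F p] {g : GL (Fin n) F} (hg : g ∈ unitri n F) :
    g ^ p ^ n = 1 := by
  cases n with
  | zero => exact Subsingleton.elim _ _
  | succ k =>
    have htri : (g : Matrix (Fin (k + 1)) (Fin (k + 1)) F).IsUpperTriangular := hg.1
    have hchar : (g : Matrix (Fin (k + 1)) (Fin (k + 1)) F).charpoly =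
        (Polynomial.X - Polynomial.C 1) ^ (k + 1) := by
      rw [Matrix.charpoly_of_isUpperTriangular _ htri]
      simp [hg.2]
    have h0 : ((g : Matrix (Fin (k + 1)) (Fin (k + 1)) F) - 1) ^ (k + 1) = 0 := by
      have := Matrix.aeval_self_charpoly (g : Matrix (Fin (k + 1)) (Fin (k + 1)) F)
      rw [hchar] at this
      simpa using this
    have h1 : ((g : Matrix (Fin (k + 1)) (Fin (k + 1)) F) - 1) ^ p ^ (k + 1) = 0 :=
      pow_eq_zero_of_le (Nat.lt_pow_self (Fact.out : p.Prime).one_lt).le h0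
    rw [sub_pow_char_pow_of_commute _ _ (Commute.one_right _), one_pow, sub_eq_zero] at h1
    exact Units.ext (by rw [Units.val_pow_eq_pow_val, h1, Units.val_one])

variable [Finite F]

include h2 in
theorem sq_mem_omega (x : Cfsg.isometryGroup F (Cfsg.quadFormOdd m F)) :
    x * x ∈ Cfsg.Omega F (Cfsg.quadFormOdd m F) := by
  revert x
  rw [← CfsgLib.Quad.oddQ_coe]
  intro x
  set E := CfsgLib.Quad.isoGroupEquiv (CfsgLib.Quad.oddQ (F := F) m) with hE
  have h := CfsgLib.Quad.sq_mem_commutator (CfsgLib.Quad.oddQ_nondeg h2 m)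
    (Or.inr (by simp only [Module.finrank_pi, Fintype.card_sum, Fintype.card_fin, Fintype.card_unit]; omega))
    (E x)
  rw [← map_mul] at h
  have hle : Subgroup.map E.symm.toMonoidHom (commutator (CfsgLib.Quad.oGroup (CfsgLib.Quad.oddQ (F := F) m)))
      ≤ commutator (Cfsg.isometryGroup F ⇑(CfsgLib.Quad.oddQ (F := F) m)) := by
    rw [commutator_def, Subgroup.map_commutator, commutator_def]
    exact Subgroup.commutator_mono le_top le_top
  have := hle ⟨_, h, rfl⟩
  simpa using this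

include h2 in
theorem ooData (p : ℕ) [Fact p.Prime] [CharP F p] :
    TwistData (ooHom (F := F) m).range (RingHom.id F) (ooDiag m h2) where
  fixed := by
    rintro _ ⟨x, rfl⟩
    exact (mem_isometry_iff m h2 _).1 x.1.2
  uni_mem g hg hfix := by
    obtain ⟨y, rfl⟩ := (ooGL (F := F) m).surjective g
    let x : Cfsg.isometryGroup F (Cfsg.quadFormOdd m F) := ⟨y, (mem_isometry_iff m h2 y).2 hfix⟩
    have hpodd : Odd (p ^ (2 * m + 1)) := by
      refine Odd.pow ((Fact.out : p.Prime).odd_of_ne_two fun e => h2 ?_)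
      subst e
      simpa using CharP.cast_eq_zero F 2
    obtain ⟨k, hk⟩ := hpodd
    have hx : x = x ^ (k + 1) * x ^ (k + 1) := by
      have h1 : x ^ (2 * k + 1) = 1 := by
        refine Subtype.ext ((ooGL (F := F) m).injective ?_)
        rw [Subgroup.coe_pow, map_pow, Subgroup.coe_one, map_one, ← hk]
        exact unitri_ppow p hg
      rw [← pow_add, show k + 1 + (k + 1) = 2 * k + 1 + 1 by omega, pow_succ, h1, one_mul]
    exact ⟨⟨x, hx ▸ sq_mem_omega m h2 _⟩, rfl⟩
  rev_mem := by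
    rintro _ ⟨x, rfl⟩
    obtain ⟨r, hr⟩ := (ooGL (F := F) m).surjective (revGL (2 * m + 1) F)
    have hrm : r ∈ Cfsg.isometryGroup F (Cfsg.quadFormOdd m F) := by
      rw [mem_isometry_iff m h2, hr, twistJ_eq_iff, adj_id, gramGL]
      ext a b
      simp only [Units.val_mul, Matrix.mul_apply, Matrix.transpose_apply, revGL_apply, diagGL_val, Matrix.diagonal_apply]
      simp
      rw [Finset.sum_eq_single (Fin.rev b)]
      · by_cases h : Fin.rev b = a
        · subst h; simp [ooDiag_rev]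
        · simp [h, Ne.symm h]
      · intro c _ hc
        rw [if_neg fun e => hc (by rw [← e, Fin.rev_rev])]
      · simp
    refine ⟨⟨⟨r, hrm⟩ * x.1 * ⟨r, hrm⟩⁻¹, Subgroup.Normal.conj_mem inferInstance _ x.2 _⟩, ?_⟩
    rw [← hr, ← map_inv]
    show ooGL m (r * _ * r⁻¹) = _
    rw [map_mul, map_mul]
    rfl
  invol _ := rfl
  sign := ⟨1, fun j => by rw [one_mul, ooDiag_rev]; rfl⟩
  middle_even q hq := absurd hq (by omega)
  middle_odd _ := ⟨2⁻¹, by rw [RingHom.id_apply, ← two_mul, mul_inv_cancel₀ h2]⟩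

include h2 in
theorem exists_steinberg_pomega_odd (p : ℕ) [Fact p.Prime] [CharP F p] :
    ∃ χ : Cfsg.POmega F (Cfsg.quadFormOdd m F) → ℂ,
      Cfsg.IsIrrCharacter (Cfsg.POmega F (Cfsg.quadFormOdd m F)) χ ∧
        ∀ P : Sylow p (Cfsg.POmega F (Cfsg.quadFormOdd m F)), χ 1 = Nat.card P ∧
          ∀ x : Cfsg.POmega F (Cfsg.quadFormOdd m F), x ∈ P → x ≠ 1 → χ x = 0 :=
  exists_steinberg_of_hom p (ooHom m) (ooHom_injective m) (ooData m h2 p)

end CfsgLib.StClassical
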