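import Cfsg.Prelude.Def_Classical
import Cfsg.Agent.StClassical.Embed
import Mathlib.LinearAlgebra.SymplecticGroup

/-!
# The Steinberg character of the symplectic groups
-/

set_option autoImplicit false
set_option linter.style.haveILetI false

namespace CfsgLib.StClassical

open Matrix CfsgLib.Pronormal CfsgLib.Unitary
open scoped MatrixGroups

variable {F : Type*} [Field F] (m : ℕ)

/-- Hyperbolic pairs in reversed positions. -/
def spIdx : Fin m ⊕ Fin m ≃ Fin (2 * m) where
  toFun := Sum.elim (fun i => ⟨i, by omega⟩) (fun i => ⟨2 * m - 1 - i, by omega⟩)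
  invFun j := if h : (j : ℕ) < m then Sum.inl ⟨j, h⟩ else Sum.inr ⟨2 * m - 1 - j, by omega⟩
  left_inv := by
    rintro (i | i)
    · simp
    · have h : ¬ 2 * m - 1 - (i : ℕ) < m := by omega
      simp only [Sum.elim_inr]
      refine (dif_neg h).trans ?_
      refine congrArg Sum.inr (Fin.ext ?_)
      show 2 * m - 1 - (2 * m - 1 - (i : ℕ)) = i
      omega
  right_inv j := by
    by_cases h : (j : ℕ) < m
    · simp [h]
    · simp only [dif_neg h, Sum.elim_inr, Fin.ext_iff]
      omega

theorem spIdx_inl (i : Fin m) : ((spIdx m (Sum.inl i) : Fin (2 * m)) : ℕ) = i := rfl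

theorem spIdx_inr (i : Fin m) : ((spIdx m (Sum.inr i) : Fin (2 * m)) : ℕ) = 2 * m - 1 - i := rfl

/-- The signs. -/
def spSign (j : Fin (2 * m)) : Fˣ := if (j : ℕ) < m then -1 else 1

theorem gram_sp : ((gramGL (spSign (F := F) m) : GL (Fin (2 * m)) F) : Matrix (Fin (2 * m)) (Fin (2 * m)) F) =
    Matrix.reindex (spIdx m) (spIdx m) (Matrix.J (Fin m) F) := by
  ext a b
  obtain ⟨x, rfl⟩ := (spIdx m).surjective a
  obtain ⟨y, rfl⟩ := (spIdx m).surjective b
  rw [gramGL_apply, Matrix.reindex_apply, Matrix.submatrix_apply, Equiv.symm_apply_apply,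
    Equiv.symm_apply_apply]
  have r1 : ∀ k, Fin.rev (spIdx m (Sum.inl k)) = spIdx m (Sum.inr k) := fun k => Fin.ext (by
    rw [Fin.val_rev, spIdx_inl, spIdx_inr]; omega)
  have r2 : ∀ k, Fin.rev (spIdx m (Sum.inr k)) = spIdx m (Sum.inl k) := fun k => by
    rw [← r1, Fin.rev_rev]
  have s1 : ∀ k, ((spSign (F := F) m (spIdx m (Sum.inl k)) : Fˣ) : F) = -1 := fun k => by
    rw [spSign, if_pos (by rw [spIdx_inl]; exact k.isLt)]; simp
  have s2 : ∀ k, ((spSign (F := F) m (spIdx m (Sum.inr k)) : Fˣ) : F) = 1 := fun k => by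
    rw [spSign, if_neg (by rw [spIdx_inr]; omega)]; simp
  rcases x with i | i <;> rcases y with k | k
  · rw [r1, if_neg (by simp)]; simp [Matrix.J]
  · rw [r2, s1]; rcases eq_or_ne k i with rfl | h <;> simp [Matrix.J, *, Ne.symm]
  · rw [r1, s2]; rcases eq_or_ne k i with rfl | h <;> simp [Matrix.J, *, Ne.symm]
  · rw [r2, if_neg (by simp)]; simp [Matrix.J]

/-- The symplectic group inside `GL (2 m)`. -/
noncomputable def spHom : Matrix.symplecticGroup (Fin m) F →* GL (Fin (2 * m)) F :=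
  MonoidHom.toHomUnits
    (((Matrix.reindexAlgEquiv F F (spIdx m)).toAlgHom.toRingHom.toMonoidHom).comp
      (Matrix.symplecticGroup (Fin m) F).subtype)

theorem spHom_val (x : Matrix.symplecticGroup (Fin m) F) :
    ((spHom m x : GL (Fin (2 * m)) F) : Matrix (Fin (2 * m)) (Fin (2 * m)) F) =
      Matrix.reindex (spIdx m) (spIdx m) (x : Matrix (Fin m ⊕ Fin m) (Fin m ⊕ Fin m) F) := rfl

theorem spHom_range_eq {g : GL (Fin (2 * m)) F} :
    g ∈ (spHom (F := F) m).range ↔ twistJ (RingHom.id F) (spSign m) g = g := by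
  rw [twistJ_eq_iff, gram_sp]
  have hadj : ∀ X : Matrix (Fin (2 * m)) (Fin (2 * m)) F, adj (RingHom.id F) X = Xᵀ := fun X => by
    ext a b; simp [adj]
  rw [hadj]
  constructor
  · rintro ⟨x, rfl⟩
    rw [spHom_val]
    simp only [Matrix.reindex_apply, Matrix.transpose_submatrix, Matrix.submatrix_mul_equiv]
    rw [SymplecticGroup.mem_iff.1 x.2]
  · intro h
    set A : Matrix (Fin m ⊕ Fin m) (Fin m ⊕ Fin m) F :=
      (g : Matrix (Fin (2 * m)) (Fin (2 * m)) F).submatrix (spIdx m) (spIdx m) with hA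
    have hgA : (g : Matrix (Fin (2 * m)) (Fin (2 * m)) F) = Matrix.reindex (spIdx m) (spIdx m) A := by
      ext a b; simp [hA]
    have hmem : A ∈ Matrix.symplecticGroup (Fin m) F := by
      rw [SymplecticGroup.mem_iff]
      rw [hgA] at h
      simp only [Matrix.reindex_apply, Matrix.transpose_submatrix, Matrix.submatrix_mul_equiv] at h
      exact (Matrix.reindex (spIdx m) (spIdx m)).injective h
    exact ⟨⟨A, hmem⟩, Units.ext (hgA.symm ▸ spHom_val m ⟨A, hmem⟩)⟩

theorem spHom_injective : Function.Injective (spHom (F := F) m) := fun x y h =>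
  Subtype.ext ((Matrix.reindex (spIdx m) (spIdx m)).injective
    (congrArg (fun g : GL (Fin (2 * m)) F => (g : Matrix (Fin (2 * m)) (Fin (2 * m)) F)) h))

theorem spData : TwistData (spHom (F := F) m).range (RingHom.id F) (spSign m) where
  fixed _ h := (spHom_range_eq m).1 h
  uni_mem _ _ h := (spHom_range_eq m).2 h
  rev_mem g h := (spHom_range_eq m).2 (twistJ_rev_conj _ _ (c := -1) (fun j => by
    simp only [spSign, Fin.val_rev]
    split_ifs <;> first | (exfalso; omega) | simp) ((spHom_range_eq m).1 h))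
  invol _ := rfl
  sign := ⟨-1, fun j => by
    simp only [spSign, Fin.val_rev, RingHom.id_apply]
    split_ifs <;> first | (exfalso; omega) | simp⟩
  middle_even p hp := ⟨1, one_ne_zero, by
    simp only [spSign, Fin.val_rev, RingHom.id_apply]
    split_ifs <;> first | (exfalso; omega) | simp⟩
  middle_odd h := absurd h (Nat.not_odd_iff_even.2 (even_two_mul m))

theorem exists_steinberg_psp [Finite F] (p : ℕ) [Fact p.Prime] [CharP F p] :
    ∃ χ : Cfsg.PSp m F → ℂ, Cfsg.IsIrrCharacter (Cfsg.PSp m F) χ ∧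
      ∀ P : Sylow p (Cfsg.PSp m F), χ 1 = Nat.card P ∧ ∀ x : Cfsg.PSp m F, x ∈ P → x ≠ 1 → χ x = 0 :=
  exists_steinberg_of_hom p (spHom m) (spHom_injective m) (spData m)

end CfsgLib.StClassical
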