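import Cfsg.Agent.StCh.Character

/-!
Every Tits system with finite Weyl group has longest elements in its parabolic subgroups.
-/

set_option autoImplicit false

namespace CfsgLib.StClassical

open Cfsg CfsgLib.BN CfsgLib.StCh

attribute [local instance] torus_normal

variable {G : Type*} [Group G] {P : Cfsg.BNPair G}

theorem len_le_add (a b : Weyl P) : len P (a * b) ≤ len P a + len P b := by
  obtain ⟨L, rfl, hL⟩ := exists_reduced P a
  obtain ⟨M, rfl, hM⟩ := exists_reduced P b
  rw [← wprod_append, ← hL, ← hM, ← List.length_append]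
  exact len_le P _

/-- An element of `W_J` with all descents in `J` absorbs the length of all of `W_J`. -/
theorem len_mul_add_of_descents {J : Set P.S} {w : Weyl P} (hd : ∀ s ∈ J, len P (w * BN.refl P s) < len P w) :
    ∀ R : List P.S, (∀ s ∈ R, s ∈ J) → len P (wprod P R) = R.length →
      len P (w * wprod P R) + R.length = len P w := by
  intro R
  induction R with
  | nil => intro _ _; simp [wprod_nil]
  | cons s R ih =>
    intro hR hl
    have hl' := reduced_tail P hl
    have hR' : ∀ t ∈ R, t ∈ J := fun t ht => hR t (List.mem_cons_of_mem _ ht)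
    have ih' := ih hR' hl'
    rw [List.length_cons, wprod_cons]
    obtain ⟨L, hL, hLl⟩ := exists_reduced P (w * wprod P R)
    have hw : wprod P (L ++ R.reverse) = w := by
      rw [wprod_append, hL, wprod_reverse, mul_inv_cancel_right]
    have hs := hd s (hR s (List.mem_cons_self ..))
    obtain ⟨i, hi, e⟩ := exchange_right (L ++ R.reverse) s
      (by rw [hw, List.length_append, List.length_reverse]; omega)
      (by rw [hw, List.length_append, List.length_reverse]; omega)
    rw [hw] at e
    rw [List.length_append, List.length_reverse] at hi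
    by_cases hiL : i < L.length
    · rw [List.eraseIdx_append_of_lt_length hiL, wprod_append, wprod_reverse, eq_mul_inv_iff_mul_eq,
        mul_assoc] at e
      have h1 := len_le P (L.eraseIdx i)
      rw [← e, List.length_eraseIdx_of_lt hiL] at h1
      have h2 := len_le_add (w * (BN.refl P s * wprod P R)) (BN.refl P s * wprod P R)⁻¹
      rw [mul_inv_cancel_right, len_inv, ← wprod_cons, hl, List.length_cons] at h2
      rw [← wprod_cons] at h1 ⊢
      omega
    · exfalso
      rw [List.eraseIdx_append_of_length_le (not_lt.1 hiL), wprod_append, hL, mul_assoc, mul_left_cancel_iff] at e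
      have h1 := len_le P ((R.reverse).eraseIdx (i - L.length))
      rw [List.length_eraseIdx_of_lt (by rw [List.length_reverse]; omega), List.length_reverse] at h1
      have h3 : (wprod P (R.reverse.eraseIdx (i - L.length))) = (wprod P (s :: R))⁻¹ := by
        rw [wprod_cons, mul_inv_rev, refl_inv, eq_inv_mul_iff_mul_eq, ← e]
      rw [h3, len_inv, hl, List.length_cons] at h1
      omega

/-- Longest elements exist. -/
theorem exists_hasLongest (P : Cfsg.BNPair G) [Finite G] : ∃ wl : Finset P.S → Weyl P, HasLongest P wl := by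
  classical
  haveI : Finite (Weyl P) := Quotient.finite _
  haveI : Fintype (Weyl P) := Fintype.ofFinite _
  have hex : ∀ J : Finset P.S, ∃ w, WJ P (J : Set P.S) w ∧ ∀ v, WJ P (J : Set P.S) v → len P v ≤ len P w := by
    intro J
    obtain ⟨w, hw, hmax⟩ := Finset.exists_max_image (Finset.univ.filter (WJ P (J : Set P.S))) (len P)
      ⟨1, Finset.mem_filter.mpr ⟨Finset.mem_univ _, wJ_one _⟩⟩
    exact ⟨w, (Finset.mem_filter.mp hw).2, fun v hv => hmax v (Finset.mem_filter.mpr ⟨Finset.mem_univ _, hv⟩)⟩
  choose wl hwl hmax using hex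
  have hdesc : ∀ J : Finset P.S, ∀ s ∈ J, len P (wl J * BN.refl P s) < len P (wl J) := fun J s hs =>
    (len_lt_or _ s).resolve_left (not_lt.mpr (hmax J _ (wJ_mul (hwl J) (wJ_refl hs))))
  refine ⟨wl, fun J w => ⟨fun h => ?_, fun h => h ▸ ⟨hwl J, hdesc J⟩⟩⟩
  obtain ⟨R, hR, hRu, hRl⟩ := exists_reduced_wJ (wJ_mul (wJ_inv h.1) (hwl J))
  have h1 := len_mul_add_of_descents h.2 R hR (by rw [hRu, hRl])
  rw [hRu, mul_inv_cancel_left] at h1
  have h2 := hmax J w h.1
  have h3 : R.length = 0 := by omega
  rw [h3] at hRl
  exact inv_mul_eq_one.mp (eq_one_of_len P hRl)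

end CfsgLib.StClassical
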