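import Mathlib.GroupTheory.Perm.Basic
import Mathlib.Data.Fin.Rev
import Mathlib.Logic.Equiv.Fintype
import Mathlib.Algebra.BigOperators.Fin
import Mathlib.Tactic

/-!
The Weyl group of type `B` as the centraliser of the reversal among the permutations of `Fin n`.
-/

set_option autoImplicit false

namespace CfsgLib.StClassical

variable {n : ℕ}

/-- Commuting with the reversal. -/
def RevComm (π : Equiv.Perm (Fin n)) : Prop := ∀ j, π (Fin.rev j) = Fin.rev (π j)

/-- The index of a simple reflection. -/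
abbrev Ix (n : ℕ) : Type := Fin (n / 2)

/-- The point moved by a simple reflection. -/
def pt (i : Ix n) : Fin n := ⟨i, by have := i.isLt; omega⟩

/-- Its successor. -/
def nx (i : Ix n) : Fin n := ⟨i + 1, by have := i.isLt; omega⟩

/-- The simple reflections. -/
def sg (i : Ix n) : Equiv.Perm (Fin n) :=
  if (i : ℕ) + 1 < n / 2 then Equiv.swap (pt i) (nx i) * Equiv.swap (Fin.rev (nx i)) (Fin.rev (pt i))
  else Equiv.swap (pt i) (Fin.rev (pt i))

/-- Labels of the blocks of the corresponding Levi subgroup. -/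
def lab (i : Ix n) (j : Fin n) : ℕ :=
  if (i : ℕ) + 1 < n / 2 then
    if (j : ℕ) = i + 1 then i else if (j : ℕ) + (i + 1) = n then n - 1 - (i + 1) else j
  else if (i : ℕ) ≤ j ∧ (j : ℕ) + i + 1 ≤ n then i else j

/-- Increasing on all inversions of a permutation. -/
def Asc (π σ : Equiv.Perm (Fin n)) : Prop := ∀ j k, j < k → σ k < σ j → π j < π k

theorem RevComm.mul {π τ : Equiv.Perm (Fin n)} (h : RevComm π) (h' : RevComm τ) : RevComm (π * τ) := fun j => by
  simp only [Equiv.Perm.mul_apply, h' j, h (τ j)]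

theorem RevComm.one : RevComm (1 : Equiv.Perm (Fin n)) := fun _ => rfl

theorem RevComm.rev_perm : RevComm (Fin.revPerm : Equiv.Perm (Fin n)) := fun j => by simp

theorem sg_apply (i : Ix n) (j : Fin n) :
    ((sg i j : Fin n) : ℕ) =
      if (i : ℕ) + 1 < n / 2 then
        (if (j : ℕ) = i then (i : ℕ) + 1 else if (j : ℕ) = i + 1 then (i : ℕ)
          else if (j : ℕ) + i + 1 = n then n - 1 - ((i : ℕ) + 1)
          else if (j : ℕ) + (i + 1) + 1 = n then n - 1 - (i : ℕ) else (j : ℕ))
      else (if (j : ℕ) = i then n - 1 - (i : ℕ) else if (j : ℕ) + i + 1 = n then (i : ℕ) else (j : ℕ)) := by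
  have := i.isLt
  have := j.isLt
  unfold sg
  split_ifs <;>
    simp only [Equiv.Perm.mul_apply, Equiv.swap_apply_def, pt, nx, Fin.ext_iff, Fin.val_rev] <;>
    (repeat' split_ifs) <;> (try simp only [Fin.val_rev, pt, nx] at *) <;> omega

theorem sg_comm (i : Ix n) : RevComm (sg i) := fun j => Fin.ext (by
  have := i.isLt
  have := j.isLt
  simp only [Fin.val_rev, sg_apply]
  split_ifs <;> omega)

theorem sg_sg (i : Ix n) : sg i * sg i = 1 := Equiv.ext fun j => Fin.ext (by
  have := i.isLt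
  have := j.isLt
  simp only [Equiv.Perm.mul_apply, Equiv.Perm.one_apply, sg_apply]
  split_ifs <;> omega)

theorem sg_apply_apply (i : Ix n) (j : Fin n) : sg i (sg i j) = j := Equiv.congr_fun (sg_sg i) j

theorem pt_lt_sg (i : Ix n) : pt i < sg i (pt i) := by
  have := i.isLt
  rw [Fin.lt_def, sg_apply]
  simp only [pt]
  split_ifs <;> omega

theorem sg_fix {i j : Ix n} (h : (i : ℕ) < j) : sg j (pt i) = pt i := Fin.ext (by
  have := j.isLt
  have hp : ((pt i : Fin n) : ℕ) = i := rfl
  rw [sg_apply]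
  by_cases hj : (j : ℕ) + 1 < n / 2
  · rw [if_pos hj, if_neg (by omega), if_neg (by omega), if_neg (by omega), if_neg (by omega)]
  · rw [if_neg hj, if_neg (by omega), if_neg (by omega)])

theorem sg_injective : Function.Injective (sg : Ix n → Equiv.Perm (Fin n)) := by
  intro i j h
  rcases lt_trichotomy (i : ℕ) j with hl | hl | hl
  · exact absurd (pt_lt_sg i) (by rw [h, sg_fix hl]; exact lt_irrefl _)
  · exact Fin.ext hl
  · exact absurd (pt_lt_sg j) (by rw [← h, sg_fix hl]; exact lt_irrefl _)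

theorem lab_pt (i : Ix n) : lab i (pt i) = i := by
  have := i.isLt
  have hp : ((pt i : Fin n) : ℕ) = i := rfl
  unfold lab
  by_cases hi : (i : ℕ) + 1 < n / 2
  · rw [if_pos hi, if_neg (by omega), if_neg (by omega), hp]
  · rw [if_neg hi, if_pos (by omega)]

/-- The block of a simple reflection. -/
theorem lab_eq_left {i : Ix n} {j : Fin n} :
    lab i j = i ↔ if (i : ℕ) + 1 < n / 2 then (j : ℕ) = i ∨ (j : ℕ) = i + 1
      else (i : ℕ) ≤ j ∧ (j : ℕ) + i + 1 ≤ n := by
  have := i.isLt
  have := j.isLt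
  simp only [lab]
  split_ifs <;> omega

theorem lab_mono (i : Ix n) : Monotone (lab i) := fun a b hab => by
  have := i.isLt
  have := b.isLt
  have : (a : ℕ) ≤ b := hab
  simp only [lab]
  split_ifs <;> omega

theorem lab_rev (i : Ix n) {a b : Fin n} : lab i (Fin.rev a) = lab i (Fin.rev b) ↔ lab i a = lab i b := by
  have := i.isLt
  have := a.isLt
  have := b.isLt
  simp only [lab, Fin.val_rev]
  split_ifs <;> omega

theorem lab_sg (i : Ix n) (j : Fin n) : lab i (sg i j) = lab i j := by
  have := i.isLt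
  have := j.isLt
  simp only [lab, sg_apply]
  split_ifs <;> omega

theorem lab_cases {i : Ix n} {a b : Fin n} (h : lab i a = lab i b) :
    a = b ∨ (lab i a = i ∧ lab i b = i) ∨ (lab i (Fin.rev a) = i ∧ lab i (Fin.rev b) = i) := by
  have := i.isLt
  have := a.isLt
  have := b.isLt
  simp only [lab_eq_left, Fin.ext_iff, Fin.val_rev]
  simp only [lab] at h
  split_ifs at h ⊢ <;> omega

theorem sg_pt (i : Ix n) :
    ((sg i (pt i) : Fin n) : ℕ) = if (i : ℕ) + 1 < n / 2 then (i : ℕ) + 1 else n - 1 - (i : ℕ) := by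
  rw [sg_apply]
  simp only [pt]
  split_ifs <;> omega

theorem fix_centre {π : Equiv.Perm (Fin n)} (hc : RevComm π) {x : Fin n} (hx : Fin.rev x = x) :
    π x = x := by
  have h1 := congrArg Fin.val (hc x)
  rw [hx] at h1
  have h2 := congrArg Fin.val hx
  simp only [Fin.val_rev] at h1 h2
  have := (π x).isLt
  have := x.isLt
  exact Fin.ext (by omega)

theorem eq_or_eq {i : Ix n} {π : Equiv.Perm (Fin n)} (hc : RevComm π) (h : ∀ j, lab i (π j) = lab i j) :
    π = 1 ∨ π = sg i := by
  have hin := i.isLt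
  have hP : ((π (pt i) : Fin n) : ℕ) = pt i ∨ ((π (pt i) : Fin n) : ℕ) = sg i (pt i) := by
    have h1 := h (pt i)
    rw [lab_pt, lab_eq_left] at h1
    rw [sg_pt]
    have hlt := (π (pt i)).isLt
    show ((π (pt i) : Fin n) : ℕ) = i ∨ _
    by_cases hi : (i : ℕ) + 1 < n / 2
    · rw [if_pos hi] at h1 ⊢; omega
    · rw [if_neg hi] at h1 ⊢
      rcases Nat.even_or_odd' n with ⟨m, hm | hm⟩
      · omega
      · have e := fix_centre hc (x := (⟨m, by omega⟩ : Fin n)) (Fin.ext (by simp only [Fin.val_rev]; omega))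
        have h3 : ((π (pt i) : Fin n) : ℕ) ≠ m := fun w => by
          have := congrArg Fin.val (π.injective ((Fin.ext w : π (pt i) = ⟨m, by omega⟩).trans e.symm))
          simp only [pt] at this
          omega
        omega
  have key : ∀ τ : Equiv.Perm (Fin n), RevComm τ → (∀ j, lab i (τ j) = lab i j) →
      τ (pt i) = π (pt i) → τ = π := by
    intro τ hτ hτ' e
    have left : ∀ j, lab i j = i → τ j = π j := by
      intro j hj
      by_cases hj1 : j = pt i
      · rw [hj1, e]
      by_cases hj2 : j = Fin.rev (pt i)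
      · rw [hj2, hτ, hc, e]
      have e' : ((τ j : Fin n) : ℕ) ≠ (π (pt i) : Fin n) := fun w =>
        hj1 (τ.injective ((Fin.ext w).trans e.symm))
      have e'' : ((π j : Fin n) : ℕ) ≠ (π (pt i) : Fin n) := fun w => hj1 (π.injective (Fin.ext w))
      have h1 := (hτ' j).trans hj
      have h2 := (h j).trans hj
      have hj' := hj
      rw [lab_eq_left] at h1 h2 hj'
      by_cases hi : (i : ℕ) + 1 < n / 2
      · rw [if_pos hi] at h1 h2
        have h0 := h (pt i)
        rw [lab_pt, lab_eq_left, if_pos hi] at h0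
        exact Fin.ext (by omega)
      · rw [if_neg hi] at hj'
        have hcen : Fin.rev j = j := by
          have hj1' : (j : ℕ) ≠ i := fun w => hj1 (Fin.ext w)
          have hj2' : (j : ℕ) + i + 1 ≠ n := fun w =>
            hj2 (Fin.ext (by simp only [Fin.val_rev, pt]; omega))
          exact Fin.ext (by simp only [Fin.val_rev]; omega)
        rw [fix_centre hτ hcen, fix_centre hc hcen]
    refine Equiv.ext fun j => ?_
    rcases lab_cases (hτ' j) with h1 | ⟨-, h1⟩ | ⟨-, h1⟩
    · rcases lab_cases (h j) with h2 | ⟨-, h2⟩ | ⟨-, h2⟩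
      · rw [h1, h2]
      · exact left j h2
      · have := left _ h2
        rw [hτ, hc, Fin.rev_inj] at this
        exact this
    · exact left j h1
    · have := left _ h1
      rw [hτ, hc, Fin.rev_inj] at this
      exact this
  rcases hP with e | e
  · exact Or.inl (key 1 RevComm.one (fun j => rfl) (Fin.ext e).symm).symm
  · exact Or.inr (key (sg i) (sg_comm i) (fun j => lab_sg i j) (Fin.ext e).symm).symm

theorem asc_of_lt {i : Ix n} {π : Equiv.Perm (Fin n)} (hc : RevComm π) (h : π (pt i) < π (sg i (pt i))) :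
    Asc π (sg i) := by
  intro j k hjk hinv
  have hin := i.isLt
  have hk := k.isLt
  have hjk' : (j : ℕ) < k := hjk
  have hinv' : ((sg i k : Fin n) : ℕ) < sg i j := hinv
  rw [sg_apply, sg_apply] at hinv'
  by_cases hi : (i : ℕ) + 1 < n / 2
  · rw [if_pos hi, if_pos hi] at hinv'
    have hs : sg i (pt i) = nx i := Fin.ext (by rw [sg_apply, if_pos hi]; simp [pt, nx])
    rw [hs] at h
    have : (j = pt i ∧ k = nx i) ∨ (j = Fin.rev (nx i) ∧ k = Fin.rev (pt i)) := by
      simp only [Fin.ext_iff, pt, nx, Fin.val_rev]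
      split_ifs at hinv' <;> omega
    rcases this with ⟨rfl, rfl⟩ | ⟨rfl, rfl⟩
    · exact h
    · rw [hc, hc]; exact Fin.rev_lt_rev.mpr h
  · rw [if_neg hi, if_neg hi] at hinv'
    have hs : sg i (pt i) = Fin.rev (pt i) := Fin.ext (by
      rw [sg_apply, if_neg hi]; simp only [pt, Fin.val_rev, if_true]; omega)
    rw [hs, hc] at h
    have h' : ((π (pt i) : Fin n) : ℕ) + (π (pt i) : Fin n) + 1 < n := by
      have := Fin.lt_def.mp h
      rw [Fin.val_rev] at this
      have := (π (pt i)).isLt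
      omega
    have : (j = pt i ∧ k = Fin.rev (pt i)) ∨ (j = pt i ∧ Fin.rev k = k) ∨
        (Fin.rev j = j ∧ k = Fin.rev (pt i)) := by
      simp only [Fin.ext_iff, pt, Fin.val_rev]
      split_ifs at hinv' <;> omega
    have hfix : ∀ x : Fin n, Fin.rev x = x → ((π x : Fin n) : ℕ) + (π x : Fin n) + 1 = n := by
      intro x hx
      have h1 := congrArg Fin.val (hc x)
      rw [hx, Fin.val_rev] at h1
      have := (π x).isLt
      omega
    rw [Fin.lt_def]
    rcases this with ⟨rfl, rfl⟩ | ⟨rfl, hk⟩ | ⟨hj, rfl⟩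
    · rw [hc, Fin.val_rev]; omega
    · have := hfix k hk; omega
    · have := hfix j hj; rw [hc, Fin.val_rev]; omega

theorem asc_or {i : Ix n} {π : Equiv.Perm (Fin n)} (hc : RevComm π) :
    Asc π (sg i) ∨ Asc (π * sg i) (sg i) := by
  rcases lt_trichotomy (π (pt i)) (π (sg i (pt i))) with h | h | h
  · exact Or.inl (asc_of_lt hc h)
  · exact absurd (π.injective h) (pt_lt_sg i).ne
  · exact Or.inr (asc_of_lt (hc.mul (sg_comm i)) (by
      rw [Equiv.Perm.mul_apply, Equiv.Perm.mul_apply, sg_apply_apply]; exact h))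

theorem exists_descent {π : Equiv.Perm (Fin n)} (hc : RevComm π) (hne : π ≠ 1) :
    ∃ i : Ix n, π (sg i (pt i)) < π (pt i) := by
  obtain ⟨j, hj, hlt⟩ : ∃ (j : ℕ) (hj : j + 1 < n), π ⟨j + 1, hj⟩ < π ⟨j, by omega⟩ := by
    by_contra hno
    push Not at hno
    refine hne (Equiv.ext fun x => ?_)
    have hmono : StrictMono π := by
      cases n with
      | zero => exact fun a => a.elim0
      | succ k =>
        refine Fin.strictMono_iff_lt_succ.mpr fun a => lt_of_le_of_ne (hno a (by omega)) fun e => ?_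
        have := π.injective e
        simp [Fin.ext_iff] at this
    have : (π : Fin n → Fin n) = id :=
      (hmono.range_inj strictMono_id).mp (by rw [Set.range_id, π.surjective.range_eq])
    simp [this]
  -- move the descent to the left half
  have hlt' : ((π ⟨j + 1, hj⟩ : Fin n) : ℕ) < π ⟨j, by omega⟩ := hlt
  have hval : ∀ (a b : ℕ) (ha : a < n) (hb : b < n), a + b + 1 = n →
      ((π ⟨b, hb⟩ : Fin n) : ℕ) + (π ⟨a, ha⟩ : Fin n) + 1 = n := by
    intro a b ha hb hab
    have : (⟨b, hb⟩ : Fin n) = Fin.rev ⟨a, ha⟩ := Fin.ext (by simp only [Fin.val_rev]; omega)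
    rw [this, hc, Fin.val_rev]
    have := (π ⟨a, ha⟩).isLt
    omega
  have aux : ∀ (j : ℕ) (hj : j + 1 < n), 2 * j + 2 ≤ n →
      π ⟨j + 1, hj⟩ < π ⟨j, by omega⟩ → ∃ i : Ix n, π (sg i (pt i)) < π (pt i) := by
    intro j hj h2 h
    refine ⟨⟨j, by omega⟩, ?_⟩
    by_cases hi : j + 1 < n / 2
    · convert h using 2
      · exact Fin.ext (by rw [sg_apply, if_pos hi]; simp [pt])
      · rfl
    · have hs : sg (⟨j, by omega⟩ : Ix n) (pt ⟨j, by omega⟩) = Fin.rev ⟨j, by omega⟩ := Fin.ext (by
        rw [sg_apply, if_neg hi]; simp only [pt, Fin.val_rev, if_true]; omega)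
      rw [hs, hc, Fin.lt_def, Fin.val_rev]
      have h' : ((π ⟨j + 1, hj⟩ : Fin n) : ℕ) < π ⟨j, by omega⟩ := h
      show _ < ((π ⟨j, by omega⟩ : Fin n) : ℕ)
      rcases Nat.even_or_odd' n with ⟨m, hm | hm⟩
      · have := hval j (j + 1) (by omega) hj (by omega)
        omega
      · have := hval (j + 1) (j + 1) hj hj (by omega)
        omega
  by_cases h2 : 2 * j + 2 ≤ n
  · exact aux j hj h2 hlt
  · have e1 := hval (j + 1) (n - 2 - j) hj (by omega) (by omega)
    have e2 := hval j (n - 1 - j) (by omega) (by omega) (by omega)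
    refine aux (n - 2 - j) (by omega) (by omega) ?_
    have e3 : (⟨n - 2 - j + 1, by omega⟩ : Fin n) = ⟨n - 1 - j, by omega⟩ :=
      Fin.ext (show n - 2 - j + 1 = n - 1 - j by omega)
    rw [e3, Fin.lt_def]
    omega

/-- The weight used for induction. -/
def weight (π : Equiv.Perm (Fin n)) : ℤ := ∑ j, ((π j : Fin n) : ℤ) * (j : ℕ)

theorem weight_lt {π σ : Equiv.Perm (Fin n)} (hσ : ∀ j, σ (σ j) = j) (hne : ∃ j, σ j ≠ j)
    (hasc : Asc (π * σ) σ) : weight π < weight (π * σ) := by
  have h2 : 2 * (weight (π * σ) - weight π) =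
      ∑ j, (((π (σ j) : Fin n) : ℤ) - (π j : Fin n)) * ((j : ℕ) - ((σ j : Fin n) : ℕ) : ℤ) := by
    have e1 : weight π = ∑ j, ((π (σ j) : Fin n) : ℤ) * ((σ j : Fin n) : ℕ) :=
      (Equiv.sum_comp σ fun j => ((π j : Fin n) : ℤ) * (j : ℕ)).symm
    have e2 : weight (π * σ) = ∑ j, ((π j : Fin n) : ℤ) * ((σ j : Fin n) : ℕ) := by
      rw [weight, ← Equiv.sum_comp σ]
      exact Finset.sum_congr rfl fun j _ => by rw [Equiv.Perm.mul_apply, hσ]
    rw [two_mul]
    conv_lhs => arg 2; rw [e2, e1]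
    rw [weight, weight]
    simp only [Equiv.Perm.mul_apply, ← Finset.sum_sub_distrib, ← Finset.sum_add_distrib]
    exact Finset.sum_congr rfl fun j _ => by ring
  have hpos : ∀ j, σ j ≠ j →
      0 < (((π (σ j) : Fin n) : ℤ) - (π j : Fin n)) * ((j : ℕ) - ((σ j : Fin n) : ℕ) : ℤ) := by
    intro j hj
    rcases lt_or_gt_of_ne hj with h | h
    · have := hasc (σ j) j h (by rw [hσ]; exact h)
      simp only [Equiv.Perm.mul_apply, hσ] at this
      rw [Fin.lt_def] at this h
      exact mul_pos (by omega) (by omega)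
    · have := hasc j (σ j) h (by rw [hσ]; exact h)
      simp only [Equiv.Perm.mul_apply, hσ] at this
      rw [Fin.lt_def] at this h
      exact mul_pos_of_neg_of_neg (by omega) (by omega)
  have hsum : 0 < ∑ j, (((π (σ j) : Fin n) : ℤ) - (π j : Fin n)) * ((j : ℕ) - ((σ j : Fin n) : ℕ) : ℤ) := by
    obtain ⟨j, hj⟩ := hne
    refine Finset.sum_pos' (fun k _ => ?_) ⟨j, Finset.mem_univ _, hpos j hj⟩
    by_cases hk : σ k = k
    · rw [hk, sub_self, zero_mul]
    · exact (hpos k hk).le
  omega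

end CfsgLib.StClassical
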