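import Cfsg.Agent.StClassical.Model

/-!
# Fixed points of twisted transpose inverse maps as models
-/

set_option autoImplicit false
set_option linter.unusedSectionVars false
set_option linter.style.haveILetI false

namespace CfsgLib.StClassical

open Matrix CfsgLib.Pronormal
open scoped MatrixGroups

variable {n : ℕ} {F : Type*} [Field F]

/-- The twist by a form with antidiagonal Gram matrix. -/
noncomputable def twistJ (φ : F →+* F) (t₀ : Fin n → Fˣ) : GL (Fin n) F →* GL (Fin n) F :=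
  (MulAut.conj (diagGL t₀)).toMonoidHom.comp (twist φ)

theorem twistJ_apply (φ : F →+* F) (t₀ : Fin n → Fˣ) (g : GL (Fin n) F) (j k : Fin n) :
    ((twistJ φ t₀ g : GL (Fin n) F) : Matrix (Fin n) (Fin n) F) j k =
      (t₀ j : F) * φ (((g⁻¹ : GL (Fin n) F) : Matrix (Fin n) (Fin n) F) (Fin.rev k) (Fin.rev j)) *
        ((t₀ k)⁻¹ : Fˣ) := by
  rw [← twist_apply φ g j k, ← diag_conj_apply]
  rfl

theorem twistJ_unitri (φ : F →+* F) (t₀ : Fin n → Fˣ) {g : GL (Fin n) F} (hg : g ∈ unitri n F) :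
    twistJ φ t₀ g ∈ unitri n F := diag_conj_mem (twist_unitri φ hg) t₀

theorem twistJ_lower (φ : F →+* F) (t₀ : Fin n → Fˣ) {g : GL (Fin n) F} (hg : g ∈ lowerTri n F) :
    twistJ φ t₀ g ∈ lowerTri n F := mem_lowerTri.2 fun i j hij => by
  show ((diagGL t₀ * twist φ g * (diagGL t₀)⁻¹ : GL (Fin n) F) : Matrix (Fin n) (Fin n) F) i j = 0
  rw [diag_conj_apply, mem_lowerTri.1 (twist_lower φ hg) i j hij, mul_zero, zero_mul]

theorem twistJ_mono (φ : F →+* F) (t₀ t : Fin n → Fˣ) (π : Equiv.Perm (Fin n)) :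
    ∃ (t' : Fin n → Fˣ) (π' : Equiv.Perm (Fin n)), twistJ φ t₀ (monoGL t π) = monoGL t' π' := by
  obtain ⟨t', π', e⟩ := twist_mono φ t π
  refine ⟨(t₀ * t') * fun i => (t₀⁻¹) (π'.symm i), π', ?_⟩
  show diagGL t₀ * twist φ (monoGL t π) * (diagGL t₀)⁻¹ = _
  rw [e, ← map_inv, diag_monoGL, monoGL_diag]

theorem revComm_of_fixed {φ : F →+* F} {t₀ t : Fin n → Fˣ} {π : Equiv.Perm (Fin n)}
    (h : twistJ φ t₀ (monoGL t π) = monoGL t π) : RevComm π := by
  intro j
  by_contra hne
  have e := congrArg (fun g : GL (Fin n) F => (g : Matrix (Fin n) (Fin n) F) (π j) j) h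
  simp only [twistJ_apply, monoGL_inv, monoGL_apply, if_true] at e
  rw [if_neg, map_zero, mul_zero, zero_mul] at e
  · exact (t _).ne_zero e.symm
  · intro e'
    exact hne (Equiv.Perm.inv_eq_iff_eq.1 e').symm

/-- The data of a classical group inside `GL n`. -/
structure TwistData (G : Subgroup (GL (Fin n) F)) (φ : F →+* F) (t₀ : Fin n → Fˣ) : Prop where
  fixed : ∀ g ∈ G, twistJ φ t₀ g = g
  uni_mem : ∀ g ∈ unitri n F, twistJ φ t₀ g = g → g ∈ G
  rev_mem : ∀ g ∈ G, revGL n F * g * (revGL n F)⁻¹ ∈ G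
  invol : ∀ a, φ (φ a) = a
  sign : ∃ ε : F, ∀ j, (t₀ j : F) = ε * φ (t₀ (Fin.rev j) : F)
  middle_even : ∀ p : Fin n, (p : ℕ) * 2 + 2 = n →
    ∃ a : F, a ≠ 0 ∧ a = -((t₀ p : F) * φ a * ((t₀ (Fin.rev p))⁻¹ : Fˣ))
  middle_odd : Odd n → ∃ z : F, z + φ z = 1

/-- The unit with matrix `1 + A` for `A` nilpotent of index at most three. -/
noncomputable def nilGL (A : Matrix (Fin n) (Fin n) F) (h : A * A * A = 0) : GL (Fin n) F :=
  ⟨1 + A, 1 - A + A * A, by
    calc (1 + A) * (1 - A + A * A) = 1 + A * A * A := by noncomm_ring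
      _ = 1 := by rw [h, add_zero],
    by
    calc (1 - A + A * A) * (1 + A) = 1 + A * A * A := by noncomm_ring
      _ = 1 := by rw [h, add_zero]⟩

theorem nilGL_mem_unitri {A : Matrix (Fin n) (Fin n) F} (h : A * A * A = 0)
    (hA : ∀ j k, k ≤ j → A j k = 0) : nilGL A h ∈ unitri n F := by
  refine ⟨fun j k hjk => ?_, fun j => ?_⟩
  · have hjk' : k < j := hjk
    show (1 + A) j k = 0
    rw [Matrix.add_apply, hA j k hjk'.le, Matrix.one_apply_ne hjk'.ne', add_zero]
  · show (1 + A) j j = 1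
    rw [Matrix.add_apply, hA j j le_rfl, Matrix.one_apply_eq, add_zero]

variable {G : Subgroup (GL (Fin n) F)} {φ : F →+* F} {t₀ : Fin n → Fˣ}

namespace TwistData

variable (D : TwistData G φ t₀)
include D

theorem sign_ne : ∀ j, φ (t₀ (Fin.rev j) : F) ≠ 0 := fun j => by
  rw [Ne, map_eq_zero]; exact (t₀ _).ne_zero

/-- A root element in the block of a simple reflection. -/
theorem exists_root (i : Ix n) : ∃ x ∈ unitri n F, twistJ φ t₀ x = x ∧
    (∀ j k, (x : Matrix (Fin n) (Fin n) F) j k ≠ 0 → lab i j = lab i k) ∧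
    (x : Matrix (Fin n) (Fin n) F) (pt i) (sg i (pt i)) ≠ 0 := by
  classical
  obtain ⟨ε, hε⟩ := D.sign
  have hin := i.isLt
  by_cases hi : (i : ℕ) + 1 < n / 2
  · -- two orthogonal root positions
    set p := pt i with hp
    set q := nx i with hq
    set b : F := -((t₀ (Fin.rev q) : F) * φ 1 * ((t₀ (Fin.rev p))⁻¹ : Fˣ)) with hb
    let A : Matrix (Fin n) (Fin n) F := Matrix.single p q 1 + Matrix.single (Fin.rev q) (Fin.rev p) b
    have v1 : (p : ℕ) = i := rfl
    have v2 : (q : ℕ) = i + 1 := rfl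
    have v3 : ((Fin.rev q : Fin n) : ℕ) = n - (i + 2) := by rw [Fin.val_rev, v2]
    have v4 : ((Fin.rev p : Fin n) : ℕ) = n - (i + 1) := by rw [Fin.val_rev, v1]
    have n1 : q ≠ p := fun e => by have := congrArg Fin.val e; omega
    have n2 : q ≠ Fin.rev q := fun e => by have := congrArg Fin.val e; omega
    have n3 : Fin.rev p ≠ p := fun e => by have := congrArg Fin.val e; omega
    have n4 : Fin.rev p ≠ Fin.rev q := fun e => by have := congrArg Fin.val e; omega
    have n5 : p ≠ Fin.rev q := fun e => by have := congrArg Fin.val e; omega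
    have hAA : A * A = 0 := by
      simp [A, add_mul, mul_add, Matrix.single_mul_single_of_ne _ _ _ _ n1,
        Matrix.single_mul_single_of_ne _ _ _ _ n2, Matrix.single_mul_single_of_ne _ _ _ _ n3,
        Matrix.single_mul_single_of_ne _ _ _ _ n4]
    have h3 : A * A * A = 0 := by rw [hAA, zero_mul]
    refine ⟨nilGL A h3, nilGL_mem_unitri h3 fun j k hkj => ?_, ?_, fun j k h => ?_, ?_⟩
    · simp only [A, Matrix.add_apply, Matrix.single_apply]
      rw [if_neg, if_neg, add_zero]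
      · rintro ⟨rfl, rfl⟩; exact absurd (Fin.le_def.1 hkj) (by omega)
      · rintro ⟨rfl, rfl⟩; exact absurd (Fin.le_def.1 hkj) (by omega)
    · refine Units.ext (Matrix.ext fun j k => ?_)
      rw [twistJ_apply]
      show (t₀ j : F) * φ ((1 - A + A * A) (Fin.rev k) (Fin.rev j)) * ((t₀ k)⁻¹ : Fˣ) = (1 + A) j k
      rw [hAA, add_zero]
      simp only [A, Matrix.sub_apply, Matrix.add_apply, Matrix.single_apply, Matrix.one_apply, Fin.rev_inj]
      have e1 : (p = Fin.rev k ∧ q = Fin.rev j) ↔ (Fin.rev q = j ∧ Fin.rev p = k) :=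
        ⟨fun e => ⟨by rw [e.2, Fin.rev_rev], by rw [e.1, Fin.rev_rev]⟩,
          fun e => ⟨by rw [← e.2, Fin.rev_rev], by rw [← e.1, Fin.rev_rev]⟩⟩
      have e2 : (Fin.rev q = Fin.rev k ∧ Fin.rev p = Fin.rev j) ↔ (p = j ∧ q = k) := by
        simp only [Fin.rev_inj]; exact and_comm
      simp only [Fin.rev_inj] at e2
      simp only [e1, e2]
      by_cases hjk : j = k
      · subst hjk
        rw [if_pos rfl, if_neg, if_neg, if_neg, if_neg]
        · simp
        all_goals rintro ⟨e, e'⟩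
        · exact n4 (e'.trans e.symm)
        · exact n1 (e'.trans e.symm)
        all_goals first | exact n4 (e'.trans e.symm) | exact n1 (e'.trans e.symm)
      rw [if_neg hjk, if_neg (Ne.symm hjk)]
      by_cases c1 : p = j ∧ q = k
      · obtain ⟨rfl, rfl⟩ := c1
        rw [if_neg fun e => n5 e.1.symm, if_pos ⟨rfl, rfl⟩, if_pos ⟨rfl, rfl⟩, if_neg fun e => n5 e.1.symm]
        simp only [hb, map_one, mul_one, map_neg, map_mul, zero_sub, zero_add, add_zero, neg_neg,
          Units.val_inv_eq_inv_val, map_inv₀]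
        rw [hε p, hε q]
        have := D.sign_ne p
        have := D.sign_ne q
        have hε0 : ε ≠ 0 := fun e => (t₀ p).ne_zero (by rw [hε p, e, zero_mul])
        field_simp
      · by_cases c2 : Fin.rev q = j ∧ Fin.rev p = k
        · obtain ⟨rfl, rfl⟩ := c2
          rw [if_pos ⟨rfl, rfl⟩, if_neg c1, if_neg c1, if_pos ⟨rfl, rfl⟩]
          simp [hb]
        · rw [if_neg c2, if_neg c1, if_neg c1, if_neg c2]; simp
    · change (1 + A) j k ≠ 0 at h
      simp only [A, Matrix.add_apply, Matrix.single_apply, Matrix.one_apply] at h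
      by_cases hjk : j = k
      · rw [hjk]
      by_cases c1 : p = j ∧ q = k
      · obtain ⟨rfl, rfl⟩ := c1
        rw [hp, lab_pt, eq_comm, lab_eq_left, if_pos hi]
        omega
      by_cases c2 : Fin.rev q = j ∧ Fin.rev p = k
      · obtain ⟨rfl, rfl⟩ := c2
        rw [lab_rev, hp, lab_pt, lab_eq_left, if_pos hi]
        omega
      · rw [if_neg hjk, if_neg c1, if_neg c2] at h; simp at h
    · have hs : sg i p = q := Fin.ext (by rw [hp, sg_pt, if_pos hi]; rfl)
      show (1 + A) p (sg i p) ≠ 0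
      rw [hs]
      simp [A, Matrix.add_apply, Matrix.single_apply, n1.symm, n5.symm]
  -- the middle block
  set p := pt i with hp
  have v1 : (p : ℕ) = i := rfl
  have v4 : ((Fin.rev p : Fin n) : ℕ) = n - (i + 1) := by rw [Fin.val_rev, v1]
  have n3 : Fin.rev p ≠ p := fun e => by have := congrArg Fin.val e; omega
  have hlab : ∀ j : Fin n, (i : ℕ) ≤ j → (j : ℕ) + i + 1 ≤ n → lab i j = i := fun j h1 h2 => by
    rw [lab_eq_left, if_neg hi]; exact ⟨h1, h2⟩
  have hs : sg i p = Fin.rev p := Fin.ext (by rw [hp, sg_pt, if_neg hi, Fin.val_rev]; omega)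
  rcases Nat.even_or_odd' n with ⟨m, hm | hm⟩
  · obtain ⟨a, ha0, ha⟩ := D.middle_even p (by omega)
    let A : Matrix (Fin n) (Fin n) F := Matrix.single p (Fin.rev p) a
    have hAA : A * A = 0 := by simp [A, Matrix.single_mul_single_of_ne _ _ _ _ n3]
    have h3 : A * A * A = 0 := by rw [hAA, zero_mul]
    refine ⟨nilGL A h3, nilGL_mem_unitri h3 fun j k hkj => ?_, ?_, fun j k h => ?_, ?_⟩
    · simp only [A, Matrix.single_apply]
      rw [if_neg]
      rintro ⟨rfl, rfl⟩; exact absurd (Fin.le_def.1 hkj) (by omega)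
    · refine Units.ext (Matrix.ext fun j k => ?_)
      rw [twistJ_apply]
      show (t₀ j : F) * φ ((1 - A + A * A) (Fin.rev k) (Fin.rev j)) * ((t₀ k)⁻¹ : Fˣ) = (1 + A) j k
      rw [hAA, add_zero]
      simp only [A, Matrix.sub_apply, Matrix.add_apply, Matrix.single_apply, Matrix.one_apply, Fin.rev_inj]
      have e1 : (p = Fin.rev k ∧ p = j) ↔ (p = j ∧ Fin.rev p = k) :=
        ⟨fun e => ⟨e.2, by rw [e.1, Fin.rev_rev]⟩, fun e => ⟨by rw [← e.2, Fin.rev_rev], e.1⟩⟩
      simp only [e1]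
      by_cases hjk : j = k
      · subst hjk
        have hn : ¬ (p = j ∧ Fin.rev p = j) := fun e => n3 (e.2.trans e.1.symm)
        simp [hn]
      rw [if_neg hjk, if_neg (Ne.symm hjk)]
      by_cases c1 : p = j ∧ Fin.rev p = k
      · obtain ⟨rfl, rfl⟩ := c1
        simp only [and_self, if_true, zero_sub, zero_add, map_neg, mul_neg, neg_mul]
        exact ha.symm
      · simp [c1]
    · change (1 + A) j k ≠ 0 at h
      simp only [A, Matrix.add_apply, Matrix.single_apply, Matrix.one_apply] at h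
      by_cases hjk : j = k
      · rw [hjk]
      by_cases c1 : p = j ∧ Fin.rev p = k
      · obtain ⟨rfl, rfl⟩ := c1
        rw [hlab _ (by omega) (by omega), hlab _ (by omega) (by omega)]
      · rw [if_neg hjk, if_neg c1] at h; simp at h
    · show (1 + A) p (sg i p) ≠ 0
      rw [hs]
      simp [A, Matrix.add_apply, Matrix.single_apply, n3.symm, ha0]
  · obtain ⟨z, hz⟩ := D.middle_odd ⟨m, hm⟩
    set o : Fin n := ⟨m, by omega⟩ with ho
    have v5 : (o : ℕ) = m := rfl
    have hoo : Fin.rev o = o := Fin.ext (by rw [Fin.val_rev, v5]; omega)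
    have n6 : o ≠ p := fun e => by have := congrArg Fin.val e; omega
    have n7 : Fin.rev p ≠ o := fun e => by have := congrArg Fin.val e; omega
    set c : F := -((t₀ o : F) * ((t₀ (Fin.rev p))⁻¹ : Fˣ)) with hc
    set b : F := z * c with hb
    let A : Matrix (Fin n) (Fin n) F :=
      Matrix.single p o 1 + Matrix.single o (Fin.rev p) c + Matrix.single p (Fin.rev p) b
    have hAA : A * A = Matrix.single p (Fin.rev p) c := by
      simp [A, add_mul, mul_add, Matrix.single_mul_single_of_ne _ _ _ _ n6,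
        Matrix.single_mul_single_of_ne _ _ _ _ n7, Matrix.single_mul_single_of_ne _ _ _ _ n3]
    have h3 : A * A * A = 0 := by
      rw [hAA]
      simp [A, mul_add, Matrix.single_mul_single_of_ne _ _ _ _ n7, Matrix.single_mul_single_of_ne _ _ _ _ n3]
    have hA : ∀ j k, A j k =
        if p = j ∧ o = k then 1 else if o = j ∧ Fin.rev p = k then c
          else if p = j ∧ Fin.rev p = k then b else 0 := by
      intro j k
      simp only [A, Matrix.add_apply, Matrix.single_apply]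
      by_cases c1 : p = j ∧ o = k
      · rw [if_pos c1, if_neg (fun e => n6 (e.1.trans c1.1.symm)), if_neg (fun e => n7 (e.2.trans c1.2.symm)),
          if_pos c1]; simp
      by_cases c2 : o = j ∧ Fin.rev p = k
      · rw [if_neg c1, if_pos c2, if_neg (fun e => n6 (c2.1.trans e.1.symm)), if_neg c1, if_pos c2]; simp
      · rw [if_neg c1, if_neg c2, if_neg c1, if_neg c2]; simp
    have hε0 : ε ≠ 0 := fun e => (t₀ p).ne_zero (by rw [hε p, e, zero_mul])
    have hfc : (t₀ p : F) * φ c * ((t₀ o)⁻¹ : Fˣ) = -1 := by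
      rw [hc, map_neg, map_mul, Units.val_inv_eq_inv_val, map_inv₀, Units.val_inv_eq_inv_val, hε p]
      have e := hε o
      rw [hoo] at e
      conv_lhs => arg 2; rw [e]
      have := D.sign_ne p
      have h1 : φ (t₀ o : F) ≠ 0 := by rw [Ne, map_eq_zero]; exact (t₀ _).ne_zero
      field_simp
    have hrc : (t₀ p : F) * φ c * ((t₀ (Fin.rev p))⁻¹ : Fˣ) = c := by
      have h0 := hfc
      rw [Units.val_inv_eq_inv_val, mul_inv_eq_iff_eq_mul₀ (t₀ o).ne_zero] at h0
      rw [h0, hc]; ring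
    refine ⟨nilGL A h3, nilGL_mem_unitri h3 fun j k hkj => ?_, ?_, fun j k h => ?_, ?_⟩
    · rw [hA, if_neg, if_neg, if_neg] <;> rintro ⟨rfl, rfl⟩ <;> exact absurd (Fin.le_def.1 hkj) (by omega)
    · refine Units.ext (Matrix.ext fun j k => ?_)
      rw [twistJ_apply]
      show (t₀ j : F) * φ ((1 - A + A * A) (Fin.rev k) (Fin.rev j)) * ((t₀ k)⁻¹ : Fˣ) = (1 + A) j k
      simp only [hAA, Matrix.sub_apply, Matrix.add_apply, Matrix.one_apply, hA, Matrix.single_apply]
      have e1 : ∀ a d : Fin n, (a = Fin.rev k ∧ d = Fin.rev j) ↔ (Fin.rev d = j ∧ Fin.rev a = k) := fun a d =>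
        ⟨fun e => ⟨by rw [e.2, Fin.rev_rev], by rw [e.1, Fin.rev_rev]⟩,
          fun e => ⟨by rw [← e.2, Fin.rev_rev], by rw [← e.1, Fin.rev_rev]⟩⟩
      simp only [e1]
      simp only [hoo, Fin.rev_rev, Fin.rev_inj]
      by_cases hjk : j = k
      · subst hjk
        have h1 : ¬ (o = j ∧ Fin.rev p = j) := fun e => n7 (e.2.trans e.1.symm)
        have h2 : ¬ (p = j ∧ o = j) := fun e => n6 (e.2.trans e.1.symm)
        have h3' : ¬ (p = j ∧ Fin.rev p = j) := fun e => n3 (e.2.trans e.1.symm)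
        simp [h1, h2, h3']
      rw [if_neg hjk, if_neg (Ne.symm hjk)]
      by_cases c1 : p = j ∧ o = k
      · obtain ⟨rfl, rfl⟩ := c1
        simp only [n6, n7, n7.symm, and_self, if_true, if_false, false_and, and_false, sub_zero, zero_sub,
          add_zero, zero_add, map_neg, mul_neg, neg_mul]
        rw [hfc, neg_neg]
      by_cases c2 : o = j ∧ Fin.rev p = k
      · obtain ⟨rfl, rfl⟩ := c2
        simp only [n6, n6.symm, n7, and_self, if_true, if_false, false_and, and_false, sub_zero, zero_sub,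
          add_zero, zero_add, map_neg, map_one, mul_one, mul_neg, neg_mul]
        rw [hc]
      by_cases c3 : p = j ∧ Fin.rev p = k
      · obtain ⟨rfl, rfl⟩ := c3
        simp only [n6, n6.symm, n7, n7.symm, and_self, if_true, if_false, false_and, and_false, sub_zero,
          zero_sub, zero_add]
        rw [hb, map_add, map_neg, map_mul]
        linear_combination (1 - φ z) * hrc - c * hz
      · simp [c1, c2, c3]
    · change (1 + A) j k ≠ 0 at h
      rw [Matrix.add_apply, hA, Matrix.one_apply] at h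
      by_cases hjk : j = k
      · rw [hjk]
      by_cases hcase : (p = j ∧ o = k) ∨ (o = j ∧ Fin.rev p = k) ∨ (p = j ∧ Fin.rev p = k)
      · rcases hcase with ⟨rfl, rfl⟩ | ⟨rfl, rfl⟩ | ⟨rfl, rfl⟩ <;>
          rw [hlab _ (by omega) (by omega), hlab _ (by omega) (by omega)]
      · push Not at hcase
        rw [if_neg hjk, if_neg (fun e => hcase.1 e.1 e.2), if_neg (fun e => hcase.2.1 e.1 e.2),
          if_neg (fun e => hcase.2.2 e.1 e.2)] at h
        simp at h
    · intro h0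
      have h1 : (1 + A) p (sg i p) = b := by
        rw [hs, Matrix.add_apply, hA, Matrix.one_apply_ne n3.symm, if_neg (fun e => n7 e.2.symm),
          if_neg (fun e => n6 e.1), if_pos ⟨rfl, rfl⟩, zero_add]
      change (1 + A) p (sg i p) = 0 at h0
      rw [h1, hb, mul_eq_zero] at h0
      rcases h0 with h0 | h0
      · rw [h0, map_zero, add_zero] at hz; exact zero_ne_one hz
      · rw [hc, neg_eq_zero] at h0
        exact (mul_ne_zero (t₀ o).ne_zero (Units.ne_zero _)) h0

/-- A root element of the group and its mirror image. -/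
theorem refl (i : Ix n) (hdec : ∀ g ∈ G, ∃ (t : Fin n → Fˣ) (π : Equiv.Perm (Fin n)) (a u : GL (Fin n) F),
    a ∈ G ∧ a ∈ unitri n F ∧ u ∈ G ∧ u ∈ unitri n F ∧ monoGL t π ∈ G ∧ g = a * monoGL t π * u) :
    ∃ t, monoGL t (sg i) ∈ G := by
  obtain ⟨x, hxU, hfix, hblk, hne⟩ := D.exists_root i
  set y := revGL n F * x * (revGL n F)⁻¹ with hy
  have hyG : y ∈ G := D.rev_mem _ (D.uni_mem x hxU hfix)
  have hyP : y ∈ blockGL F i := fun j k hjk => by
    rw [hy, rev_conj_apply]
    by_contra h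
    exact hjk.ne' ((lab_rev i).1 (hblk _ _ h))
  obtain ⟨t, π, a, u, ha, haU, hu, huU, hm, he⟩ := hdec y hyG
  have hπ : ∀ j, lab i (π j) = lab i j := (mono_mem_blockGL_iff (t := t)).1 (by
    rw [show monoGL t π = a⁻¹ * y * u⁻¹ by rw [he]; group]
    exact mul_mem (mul_mem (inv_mem (upper_le_blockGL i haU.1)) hyP) (inv_mem (upper_le_blockGL i huU.1)))
  rcases eq_or_eq (revComm_of_fixed (D.fixed _ hm)) hπ with rfl | rfl
  · exfalso
    have hyB : y ∈ Cfsg.upperTriangularGL n F := by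
      rw [he, monoGL_one]
      exact mul_mem (mul_mem haU.1 (diag_mem_upper t)) huU.1
    have h0 := upper_apply hyB (show Fin.rev (sg i (pt i)) < Fin.rev (pt i) from Fin.rev_lt_rev.2 (pt_lt_sg i))
    rw [hy, rev_conj_apply, Fin.rev_rev, Fin.rev_rev] at h0
    exact hne h0
  · exact ⟨t, hm⟩

theorem decomp [Finite F] : ∀ g ∈ G, ∃ (t : Fin n → Fˣ) (π : Equiv.Perm (Fin n)) (a u : GL (Fin n) F),
    a ∈ G ∧ a ∈ unitri n F ∧ u ∈ G ∧ u ∈ unitri n F ∧ monoGL t π ∈ G ∧ g = a * monoGL t π * u := by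
  intro g hg
  obtain ⟨t, π, a₀, ha₀, u₀, hu₀, rfl⟩ := exists_unitri_bruhat g
  obtain ⟨a, c, ha, haL, hc, hcU, rfl⟩ := exists_factor π t ha₀
  obtain ⟨t', π', hm'⟩ := twistJ_mono φ t₀ t π
  set m := monoGL t π
  set u := m⁻¹ * c * m * u₀
  have hu : u ∈ unitri n F := mul_mem hcU hu₀
  have hg' : a * c * m * u₀ = a * m * u := by simp [u, mul_assoc]
  rw [hg'] at hg ⊢
  have hfix := D.fixed _ hg
  rw [map_mul, map_mul, hm'] at hfix
  have hx : a⁻¹ * twistJ φ t₀ a * monoGL t' π' = monoGL t π * (u * (twistJ φ t₀ u)⁻¹) := by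
    rw [← mul_assoc (monoGL t π), eq_mul_inv_iff_mul_eq, mul_assoc a⁻¹, mul_assoc, inv_mul_eq_iff_eq_mul,
      hfix, mul_assoc]
  have hmm : monoGL t' π' = m :=
    mono_mul_unique (mul_mem (inv_mem ha) (twistJ_unitri φ t₀ ha))
      (mul_mem hu (inv_mem (twistJ_unitri φ t₀ hu))) hx
  rw [hmm] at hx hm'
  have hL : m⁻¹ * (a⁻¹ * twistJ φ t₀ a) * m ∈ lowerTri n F := by
    have h1 := twistJ_lower φ t₀ haL
    rw [map_mul, map_mul, map_inv, hm'] at h1
    have : m⁻¹ * (a⁻¹ * twistJ φ t₀ a) * m = (m⁻¹ * a * m)⁻¹ * (m⁻¹ * twistJ φ t₀ a * m) := by group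
    rw [this]
    exact mul_mem (inv_mem haL) h1
  have hone : m⁻¹ * (a⁻¹ * twistJ φ t₀ a) * m = 1 := by
    refine eq_one_of_unitri_lower ?_ hL
    rw [mul_assoc, hx, inv_mul_cancel_left]
    exact mul_mem hu (inv_mem (twistJ_unitri φ t₀ hu))
  have haf : twistJ φ t₀ a = a := by
    rw [mul_assoc, inv_mul_eq_one, eq_comm, mul_eq_right, inv_mul_eq_one] at hone
    exact hone.symm
  have huf : twistJ φ t₀ u = u := by
    rw [haf, inv_mul_cancel, one_mul, left_eq_mul, mul_inv_eq_one] at hx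
    exact hx.symm
  have ha' : a ∈ G := D.uni_mem a ha haf
  have hu' : u ∈ G := D.uni_mem u hu huf
  refine ⟨t, π, a, u, ha', ha, hu', hu, ?_, rfl⟩
  have : m = a⁻¹ * (a * m * u) * u⁻¹ := by group
  show m ∈ G
  rw [this]
  exact mul_mem (mul_mem (inv_mem ha') hg) (inv_mem hu')

theorem factor [Finite F] (t : Fin n → Fˣ) (π : Equiv.Perm (Fin n)) (hm : monoGL t π ∈ G)
    (b : GL (Fin n) F) (hb : b ∈ G) (hbU : b ∈ unitri n F) : ∃ a c : GL (Fin n) F,
      a ∈ G ∧ a ∈ unitri n F ∧ (monoGL t π)⁻¹ * a * monoGL t π ∈ lowerTri n F ∧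
      c ∈ G ∧ c ∈ unitri n F ∧ (monoGL t π)⁻¹ * c * monoGL t π ∈ unitri n F ∧ b = a * c := by
  obtain ⟨a, c, ha, haL, hc, hcU, rfl⟩ := exists_factor π t hbU
  set m := monoGL t π
  set θ := twistJ φ t₀
  have hmf : θ m = m := D.fixed _ hm
  have hL : m⁻¹ * θ a * m ∈ lowerTri n F := by
    have := twistJ_lower φ t₀ haL
    rwa [map_mul, map_mul, map_inv, hmf] at this
  have hU : m⁻¹ * θ c * m ∈ unitri n F := by
    have := twistJ_unitri φ t₀ hcU
    rwa [map_mul, map_mul, map_inv, hmf] at this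
  have he : θ a * θ c = a * c := by rw [← map_mul]; exact D.fixed _ hb
  have hz : (θ a)⁻¹ * a = θ c * c⁻¹ := by
    rw [eq_mul_inv_iff_mul_eq, mul_assoc, ← he, inv_mul_cancel_left]
  have h1 : m⁻¹ * ((θ a)⁻¹ * a) * m ∈ lowerTri n F := by
    rw [show m⁻¹ * ((θ a)⁻¹ * a) * m = (m⁻¹ * θ a * m)⁻¹ * (m⁻¹ * a * m) by group]
    exact mul_mem (inv_mem hL) haL
  have h2 : m⁻¹ * ((θ a)⁻¹ * a) * m ∈ unitri n F := by
    rw [hz, show m⁻¹ * (θ c * c⁻¹) * m = (m⁻¹ * θ c * m) * (m⁻¹ * c * m)⁻¹ by group]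
    exact mul_mem hU (inv_mem hcU)
  have h3 := eq_one_of_unitri_lower h2 h1
  rw [mul_assoc, inv_mul_eq_one, eq_comm, mul_eq_right, inv_mul_eq_one] at h3
  have hcf : θ c = c := by
    have := he; rw [h3] at this; exact mul_left_cancel this
  exact ⟨a, c, D.uni_mem a ha h3, ha, haL, D.uni_mem c hc hcf, hc, hcU, rfl⟩

/-- The model. -/
theorem model [Finite F] : Model G where
  decomp := D.decomp
  comm t π h := revComm_of_fixed (D.fixed _ h)
  factor := D.factor
  refl i := D.refl i D.decomp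
  root i := by
    obtain ⟨x, hxU, hfix, -, hne⟩ := D.exists_root i
    exact ⟨x, D.uni_mem x hxU hfix, hxU, hne⟩

end TwistData

end CfsgLib.StClassical
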